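import Cfsg.Agent.Lib.Fusion.Saturation

/-
Normal (invariant) subsystems of a saturated fusion system.
Main results (namespace `Cfsg.Agent.FusionNormal`): `frattini_map`, `transport_map`,
`congr_mem_autGroup` (an isomorphism of `F` carries `Aut_E(P)` to `Aut_E(Q)`), `conj_mem_autGroup`
(`Aut_E(P)` is normalised by `Aut_F(P)`), `mem_of_pElement` (for `E` over `S`: every `p`-element of `Aut_F(P)`
is in `E`), `map_normalizer_mem`, `mem_autGroup_top` (an automorphism of `S` whose restriction to a centric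
subgroup is in `E` is itself in `E`), `isSimple_of_top_generated` (simplicity criterion).
-/

set_option autoImplicit false

namespace Cfsg.Agent.FusionNormal

open Cfsg Cfsg.FusionSystem Cfsg.Agent.Fusion

variable {Ω : Type*} [Group Ω] {S T : Subgroup Ω} {F : FusionSystem S} {E : FusionSystem T}

theorem isMap_of_sub (h : E.IsSubsystemOf F) {P : Subgroup Ω} {f : Ω → Ω} (hf : IsMap E P f) :
    IsMap F P f :=
  let ⟨φ, hφ, e⟩ := hf
  ⟨φ, h P hφ, e⟩

theorem isIso_of_sub (h : E.IsSubsystemOf F) {P Q : Subgroup Ω} {f : Ω → Ω} (hf : IsIso E P Q f) :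
    IsIso F P Q f :=
  ⟨isMap_of_sub h hf.1, hf.2⟩

theorem autGroup_le_of_sub (h : E.IsSubsystemOf F) {P : Subgroup Ω} (hP : P ≤ T) :
    E.autGroup P ≤ F.autGroup P := by
  intro α hα
  have h1 := isMap_of_sub h ((mem_autGroup_iff hP).1 hα)
  exact (mem_autGroup_iff h1.le).2 h1

/-- The Frattini condition, for maps as functions. -/
theorem frattini_map (hE : E.IsInvariantIn F) {P : Subgroup Ω} (hP : P ≤ T) {f : Ω → Ω}
    (hf : IsMap F P f) :
    ∃ α ∈ F.autGroup T, ∃ f₀, IsMap E P f₀ ∧ ∀ x ∈ P, f x = autFn α (f₀ x) := by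
  obtain ⟨φ, hφ, e⟩ := hf
  obtain ⟨α, hα, φ₀, hφ₀, h⟩ := hE.2.2.2 P hP φ hφ
  refine ⟨α, hα, toFn φ₀, isMap_toFn hφ₀, fun x hx => ?_⟩
  have h0 : φ₀ ⟨x, hx⟩ ∈ T := (E.le_of_mem hφ₀).2 _
  rw [← e x hx, h ⟨x, hx⟩ h0, toFn_apply φ₀ hx, autFn_apply α h0]

/-- The invariance condition, for maps as functions. -/
theorem transport_map (hE : E.IsInvariantIn F) {P : Subgroup Ω} (hP : P ≤ T) {f : Ω → Ω}
    (hf : IsMap E P f) {α : MulAut T} (hα : α ∈ F.autGroup T) :
    ∃ g, IsMap E (img (autFn α) P) g ∧ ∀ x ∈ P, g (autFn α x) = autFn α (f x) := by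
  obtain ⟨φ, hφ, e⟩ := hf
  obtain ⟨χ, hχ, h⟩ := hE.2.2.1 P hP φ hφ α hα
  have hαS : IsMap F T (autFn α) := (mem_autGroup_iff hE.2.1.1).1 hα
  have hdom : (P.subgroupOf T).map (T.subtype.comp α.toMonoidHom) = img (autFn α) P := by
    refine le_antisymm ?_ (hαS.img_le hP fun x hx => ?_)
    · rintro _ ⟨x, hx, rfl⟩
      exact Subgroup.subset_closure ⟨x, hx, autFn_apply α x.2⟩
    · exact ⟨⟨x, hP hx⟩, hx, (autFn_apply α (hP hx)).symm⟩
  refine ⟨toFn χ, hdom ▸ isMap_toFn hχ, fun x hx => ?_⟩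
  have hfx : φ ⟨x, hx⟩ ∈ T := (E.le_of_mem hφ).2 _
  have hαx : ((α ⟨x, hP hx⟩ : T) : Ω) ∈ (P.subgroupOf T).map (T.subtype.comp α.toMonoidHom) :=
    ⟨⟨x, hP hx⟩, hx, rfl⟩
  rw [autFn_apply α (hP hx), toFn_apply χ hαx, h ⟨x, hx⟩ hfx hαx, ← e x hx, autFn_apply α hfx]

/-- An isomorphism of `F` between subgroups of `T` carries `Aut_E(P)` into `Aut_E(Q)`. -/
theorem congr_mem_autGroup (hE : E.IsInvariantIn F) {P Q : Subgroup Ω} {f : Ω → Ω}
    (hf : IsIso F P Q f) (hP : P ≤ T) {β : MulAut P} (hβ : β ∈ E.autGroup P) :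
    MulAut.congr hf.equiv β ∈ E.autGroup Q := by
  obtain ⟨α, hα, f₀, hf₀, he⟩ := frattini_map hE hP hf.1
  have hQ : Q ≤ T := by
    rw [← hf.2]
    refine hf.1.img_le le_rfl fun x hx => ?_
    rw [he x hx]
    exact autFn_mem α (hf₀.mem hx)
  have h0 : IsIso E P (img f₀ P) f₀ := hf₀.isIso
  have hR : img f₀ P ≤ T := hf₀.img_le_S
  have hβ0 := Fusion.congr_mem_autGroup h0 hβ
  obtain ⟨g, hg, hge⟩ := transport_map hE hR ((mem_autGroup_iff hR).1 hβ0) hα
  have hαS : IsMap F T (autFn α) := (mem_autGroup_iff hE.2.1.1).1 hα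
  have himg : img (autFn α) (img f₀ P) = Q := by
    refine IsIso.img_eq_of hαS hR (fun y hy => ?_) fun z hz => ?_
    · obtain ⟨x, hx, rfl⟩ := h0.exists_eq hy
      rw [← he x hx]
      exact hf.mem hx
    · obtain ⟨x, hx, rfl⟩ := hf.exists_eq hz
      exact ⟨f₀ x, h0.mem hx, (he x hx).symm⟩
  rw [himg] at hg
  refine (mem_autGroup_iff hQ).2 (hg.congr fun z hz => ?_)
  obtain ⟨x, hx, rfl⟩ := hf.exists_eq hz
  have e1 : autFn (MulAut.congr h0.equiv β) (f₀ x) = f₀ ((β ⟨x, hx⟩ : P) : Ω) := by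
    rw [autFn_apply _ (h0.mem hx)]
    exact congr_apply_coe h0 β ⟨x, hx⟩
  have e2 : autFn (MulAut.congr hf.equiv β) (f x) = f ((β ⟨x, hx⟩ : P) : Ω) := by
    rw [autFn_apply _ (hf.mem hx)]
    exact congr_apply_coe hf β ⟨x, hx⟩
  calc g (f x) = g (autFn α (f₀ x)) := by rw [he x hx]
    _ = autFn α (f₀ ((β ⟨x, hx⟩ : P) : Ω)) := by rw [hge _ (h0.mem hx), e1]
    _ = f ((β ⟨x, hx⟩ : P) : Ω) := (he _ (β ⟨x, hx⟩).2).symm
    _ = autFn (MulAut.congr hf.equiv β) (f x) := e2.symm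

theorem congr_mem_autGroup_iff (hE : E.IsInvariantIn F) {P Q : Subgroup Ω} {f : Ω → Ω}
    (hf : IsIso F P Q f) (hP : P ≤ T) {β : MulAut P} :
    MulAut.congr hf.equiv β ∈ E.autGroup Q ↔ β ∈ E.autGroup P := by
  refine ⟨fun hβ => ?_, congr_mem_autGroup hE hf hP⟩
  obtain ⟨g, hg, hgf, -⟩ := hf.symm
  have hQ : Q ≤ T := by
    intro y hy
    obtain ⟨x, hx, rfl⟩ := hf.exists_eq hy
    obtain ⟨φ, hφ, e⟩ := hf.1
    rw [← e x hx]
    exact hE.2.1.2 P hP φ hφ ⟨x, hx⟩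
  convert congr_mem_autGroup hE hg hQ hβ using 1
  refine MulEquiv.ext fun x => Subtype.ext ?_
  have hx : hg.equiv (hf.equiv x) = x := Subtype.ext (by simp [hgf x x.2])
  conv_rhs => rw [← hx, congr_apply_coe]
  rw [congr_apply_coe, hgf _ (β x).2]

/-- `Aut_E(P)` is normalised by `Aut_F(P)`. -/
theorem conj_mem_autGroup (hE : E.IsInvariantIn F) {P : Subgroup Ω} (hP : P ≤ T) {α β : MulAut P}
    (hα : α ∈ F.autGroup P) (hβ : β ∈ E.autGroup P) : α * β * α⁻¹ ∈ E.autGroup P := by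
  have hPS : P ≤ S := hP.trans hE.2.1.1
  have hf := isIso_autFn hPS hα
  convert congr_mem_autGroup hE hf hP hβ using 1
  refine MulEquiv.ext fun x => Subtype.ext ?_
  have hx : hf.equiv (α⁻¹ x) = x := Subtype.ext (by
    rw [IsIso.equiv_apply, autFn_apply α (α⁻¹ x).2]
    simp)
  conv_rhs => rw [← hx, congr_apply_coe, autFn_apply α (β _).2]
  rfl

/-! ### Subsystems over the whole of `S` -/

section Top

variable {E' : FusionSystem S} {p : ℕ}

/-- For an invariant subsystem over `S` of a saturated system, `Aut_E(P)` contains all `p`-elements of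
`Aut_F(P)`. -/
theorem mem_of_pElement [Finite S] [Fact p.Prime] (hS : IsPGroup p S) (hF : F.IsSaturated p)
    (hE : E'.IsInvariantIn F) {P : Subgroup Ω} (hP : P ≤ S) {γ : MulAut P} (hγ : γ ∈ F.autGroup P)
    {k : ℕ} (hk : γ ^ p ^ k = 1) : γ ∈ E'.autGroup P := by
  obtain ⟨R, f, hR, hf, himg, -⟩ := exists_fullyNormalized_map hS hF hP
  have hiso : IsIso F P R f := ⟨hf.mono (le_normalizerIn hP), himg⟩
  rw [← congr_mem_autGroup_iff hE hiso hP]
  set δ := MulAut.congr hiso.equiv γ with hδdef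
  have hδ : δ ∈ F.autGroup R := Fusion.congr_mem_autGroup hiso hγ
  have := finite_mulAut (S := S) hR.1
  have hH : IsPGroup p (Subgroup.zpowers δ) := by
    rintro ⟨x, hx⟩
    obtain ⟨n, rfl⟩ := Subgroup.mem_zpowers_iff.1 hx
    refine ⟨k, Subtype.ext ?_⟩
    show (δ ^ n) ^ p ^ k = 1
    rw [← zpow_natCast, ← zpow_mul, mul_comm, zpow_mul, zpow_natCast, hδdef, ← map_pow, hk,
      map_one, one_zpow]
  obtain ⟨a, ha, hconj⟩ := (isFullyAutomized_iff.1
    (fullyAutomized_of_fullyNormalized hS hF hR)).2.exists_conj_le hH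
    (Subgroup.zpowers_le.2 hδ)
  have h1 : a * δ * a⁻¹ ∈ E'.autGroup R :=
    autInducedBy_le_autGroup E' le_rfl hR.1 (hconj δ (Subgroup.mem_zpowers δ))
  have h2 := conj_mem_autGroup hE hR.1 (inv_mem ha) h1
  simpa [mul_assoc] using h2

/-- If an automorphism of `S` preserves the centric subgroup `Q` and induces a map of `E` on it, then it
induces a map of `E` on `N_S(Q)`. -/
theorem map_normalizer_mem [Finite S] [Fact p.Prime] (hS : IsPGroup p S) (hF : F.IsSaturated p)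
    (hE : E'.IsInvariantIn F) (hEsat : E'.IsSaturated p) {Q : Subgroup Ω} (hQ : F.IsCentric Q)
    {β : MulAut S} (hβ : β ∈ F.autGroup S) (hβQ : IsIso E' Q Q (autFn β)) :
    IsIso E' (normalizerIn S Q) (normalizerIn S Q) (autFn β) := by
  set N := normalizerIn S Q with hN
  have hNS : N ≤ S := inf_le_left
  have hQN : Q ≤ N := le_normalizerIn hQ.1
  have hb : IsMap F S (autFn β) := (mem_autGroup_iff le_rfl).1 hβ
  have hQimg : img (autFn β) Q = Q := hβQ.2
  have hbN : ∀ g ∈ N, autFn β g ∈ N := fun g hg => map_normalizerIn hb hQ.1 hQimg (hNS hg) hg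
  have hcz : ∀ Q' : Subgroup Ω, E'.IsConj Q Q' → centralizerIn S Q' ≤ Q' := fun Q' h => by
    refine hQ.2 Q' ?_
    obtain ⟨f, hf⟩ := isConj_iff.1 h
    exact isConj_iff.2 ⟨f, isIso_of_sub hE.1 hf⟩
  have hfc : E'.IsFullyCentralized Q := by
    refine ⟨hQ.1, fun Q' h => ?_⟩
    obtain ⟨f, hf⟩ := isConj_iff.1 (isConj_symm h)
    have hC : centralizerIn S Q' ≤ Q' := hcz Q' h
    rw [← hf.1.card_img hC]
    have := finite_of_le (S := S) (P := centralizerIn S Q) inf_le_left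
    exact Subgroup.card_le_of_le (hf.1.img_le hC fun g hg =>
      map_centralizerIn hf.1 le_rfl hf.2 (hC hg) hg)
  obtain ⟨ψ, hψ, heq⟩ := (isReceptive_iff.1 (receptive_of_fullyCentralized hS hEsat hfc)).2
    Q _ hβQ
  have hNle : N ≤ Nx S Q (autFn β) := fun g hg =>
    mem_Nx.2 ⟨hg, autFn β g, hb.mem (hNS hg), fun x hx => hb.map_conj (hNS hg) (hQ.1 hx)⟩
  have hψN : IsMap E' N ψ := hψ.mono hNle
  have hψQ : img ψ Q = Q := (img_congr heq).trans hQimg
  have hψmem : ∀ g ∈ N, ψ g ∈ N := fun g hg => map_normalizerIn hψN hQN hψQ hg hg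
  have hψiso : IsIso E' N N ψ :=
    ⟨hψN, eq_of_le_of_card hNS (hψN.img_le le_rfl hψmem) (le_of_eq (hψN.card_img le_rfl).symm)⟩
  obtain ⟨θ, hθ, hθψ, hψθ⟩ := hψiso.symm
  have hbNiso : IsIso F N N (autFn β) :=
    ⟨hb.mono hNS, eq_of_le_of_card hNS ((hb.mono hNS).img_le le_rfl hbN)
      (le_of_eq ((hb.mono hNS).card_img le_rfl).symm)⟩
  obtain ⟨δ, hδ, hδe⟩ := exists_aut_of_isIso (hbNiso.trans (isIso_of_sub hE.1 hθ))
  have hfix : ∀ q (hq : q ∈ Q), δ ⟨q, hQN hq⟩ = ⟨q, hQN hq⟩ := by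
    intro q hq
    refine Subtype.ext ?_
    rw [hδe]
    show θ (autFn β q) = q
    rw [← heq q hq]
    exact hθψ q (hQN hq)
  have hz : ∀ x : N, (((x⁻¹ * δ x : N)) : Ω) ∈ Q := by
    intro x
    refine hQ.2 Q (isConj_refl F hQ.1) (mem_centralizerIn_of_conj (hNS (x⁻¹ * δ x).2) fun q hq => ?_)
    have hxq : (x : Ω) * q * (x : Ω)⁻¹ ∈ Q := normalizerIn_conj x.2 hq
    have h1 : δ (x * ⟨q, hQN hq⟩ * x⁻¹) = x * ⟨q, hQN hq⟩ * x⁻¹ := hfix _ hxq
    rw [map_mul, map_mul, map_inv, hfix q hq] at h1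
    have h2 : x⁻¹ * δ x * ⟨q, hQN hq⟩ * (x⁻¹ * δ x)⁻¹ = (⟨q, hQN hq⟩ : N) := by
      calc x⁻¹ * δ x * ⟨q, hQN hq⟩ * (x⁻¹ * δ x)⁻¹
          = x⁻¹ * (δ x * ⟨q, hQN hq⟩ * (δ x)⁻¹) * x := by group
        _ = ⟨q, hQN hq⟩ := by rw [h1]; group
    exact congrArg Subtype.val h2
  have hpow : ∀ (x : N) (n : ℕ), (δ ^ n) x = x * (x⁻¹ * δ x) ^ n := by
    intro x n
    induction n with
    | zero => simp
    | succ m ih =>
      have hzfix : δ (x⁻¹ * δ x) = x⁻¹ * δ x := hfix _ (hz x)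
      rw [pow_succ', MulAut.mul_apply, ih, map_mul, map_pow, hzfix, pow_succ', ← mul_assoc]
      simp
  obtain ⟨m, hm⟩ := IsPGroup.iff_card.1 hS
  have hδ1 : δ ^ p ^ m = 1 := by
    refine MulEquiv.ext fun x => ?_
    rw [hpow, MulAut.one_apply]
    have hzS : (⟨((x⁻¹ * δ x : N) : Ω), hNS (x⁻¹ * δ x).2⟩ : S) ^ p ^ m = 1 := by
      rw [← hm]
      exact pow_card_eq_one'
    have hzN : (x⁻¹ * δ x) ^ p ^ m = 1 := by
      refine Subtype.ext ?_
      rw [SubgroupClass.coe_pow]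
      exact congrArg Subtype.val hzS
    rw [hzN, mul_one]
  have hδE := mem_of_pElement hS hF hE hNS hδ hδ1
  refine (((isIso_autFn hNS hδE).trans hψiso)).congr fun x hx => ?_
  rw [autFn_apply δ hx, hδe]
  exact hψθ _ (hbN x hx)

/-- An automorphism of `S` in `F` whose restriction to a centric subgroup lies in `E` lies in `E`. -/
theorem mem_autGroup_top [Finite S] [Fact p.Prime] (hS : IsPGroup p S) (hF : F.IsSaturated p)
    (hE : E'.IsInvariantIn F) (hEsat : E'.IsSaturated p) {Q : Subgroup Ω} (hQ : F.IsCentric Q)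
    {β : MulAut S} (hβ : β ∈ F.autGroup S) (hβQ : IsIso E' Q Q (autFn β)) : β ∈ E'.autGroup S := by
  induction h : Nat.card S - Nat.card Q using Nat.strong_induction_on generalizing Q with
  | _ n ih =>
    by_cases hQS : Q = S
    · subst hQS
      exact (mem_autGroup_iff le_rfl).2 hβQ.1
    have hlt : Q < normalizerIn S Q := lt_normalizerIn hS le_rfl (lt_of_le_of_ne hQ.1 hQS)
    have hNS : normalizerIn S Q ≤ S := inf_le_left
    have hcent : F.IsCentric (normalizerIn S Q) := by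
      refine ⟨hNS, fun N' hN' => ?_⟩
      obtain ⟨f, hf⟩ := isConj_iff.1 hN'
      have hQ' : F.IsConj Q (img f Q) := isConj_iff.2 ⟨f, hf.mono hlt.le⟩
      have hsub : img f Q ≤ N' := hf.1.img_le hlt.le fun x hx => hf.mem (hlt.le hx)
      intro g hg
      refine hsub (hQ.2 _ hQ' ?_)
      obtain ⟨hgS, hgc⟩ := mem_centralizerIn.1 hg
      exact mem_centralizerIn.2 ⟨hgS, fun x hx => hgc x (hsub hx)⟩
    have hcard : Nat.card Q < Nat.card (normalizerIn S Q) := by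
      have := finite_of_le hNS
      refine lt_of_le_of_ne (Subgroup.card_le_of_le hlt.le) fun he => hlt.ne ?_
      exact eq_of_le_of_card hNS hlt.le he.symm.le
    have hle : Nat.card (normalizerIn S Q) ≤ Nat.card S := Subgroup.card_le_of_le hNS
    exact ih (Nat.card S - Nat.card (normalizerIn S Q)) (by omega) hcent
      (map_normalizer_mem hS hF hE hEsat hQ hβ hβQ) rfl

/-- A saturated system without nontrivial proper strongly closed subgroup is simple as soon as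
`Aut_F(S)` is generated by `p`-elements and by automorphisms restricting, on some centric subgroup,
to an element of the subgroup generated by the `p`-elements of its automorphism group. -/
theorem isSimple_of_top_generated [Finite S] [Fact p.Prime] (hS : IsPGroup p S)
    (hF : F.IsSaturated p) (hS1 : S ≠ ⊥)
    (hsc : ∀ U : Subgroup Ω, F.StronglyClosed U → U = ⊥ ∨ U = S)
    (hgen : F.autGroup S ≤ Subgroup.closure {β : MulAut S | β ∈ F.autGroup S ∧
      ((∃ k, β ^ p ^ k = 1) ∨ ∃ Q, F.IsCentric Q ∧ ∃ γ ∈ Subgroup.closure {γ : MulAut Q |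
        γ ∈ F.autGroup Q ∧ ∃ k, γ ^ p ^ k = 1}, ∀ x : Q, ((γ x : Q) : Ω) = autFn β x)}) :
    F.IsSimple p := by
  refine ⟨hF, hS1, fun U D hD => ?_⟩
  obtain ⟨⟨hDsat, -, hD⟩, -⟩ := hD
  rcases hsc U hD.2.1 with h | h
  · exact Or.inl h
  subst h
  have hle : F.autGroup U ≤ D.autGroup U := by
    refine hgen.trans ((Subgroup.closure_le _).2 ?_)
    rintro β ⟨hβ, ⟨k, hk⟩ | ⟨Q, hQ, γ, hγ, hγβ⟩⟩
    · exact mem_of_pElement hS hF hD le_rfl hβ hk
    refine mem_autGroup_top hS hF hD hDsat hQ hβ ?_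
    have hγD : γ ∈ D.autGroup Q := by
      refine (Subgroup.closure_le _).2 ?_ hγ
      rintro δ ⟨hδ, k, hk⟩
      exact mem_of_pElement hS hF hD hQ.1 hδ hk
    refine (isIso_autFn hQ.1 hγD).congr fun x hx => ?_
    rw [autFn_apply γ hx, hγβ]
  refine Or.inr ⟨rfl, fun P => Set.Subset.antisymm (hD.1 P) fun φ hφ => ?_⟩
  have hPU := (F.le_of_mem hφ).1
  obtain ⟨α, hα, f₀, hf₀, he⟩ := frattini_map hD hPU (isMap_toFn hφ)
  refine mem_of_isMap ((hf₀.comp ((mem_autGroup_iff le_rfl).1 (hle hα)) fun x hx => hf₀.mem hx).congr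
    fun x hx => (he x hx).symm) fun x => ?_
  exact (toFn_coe φ x).symm

end Top

end Cfsg.Agent.FusionNormal
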