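import Cfsg.Agent.Lib.FusionNormal.Basic

/-
Generation of saturated fusion systems by automizers and subsystems of p-power index.
Main results (namespace `Cfsg.Agent.FusionNormal`): `isMap_of_autGroup` (weak Alperin: every map lies in `D`
when the automizers of the fully normalized subgroups do), `eq_inner_of_isPGroup` (Frobenius criterion),
`autGroup_le_of_sylow_pResidual`, `isMap_of_pPowerIndex` (every saturated subsystem over `T ≤ U` lies in a
subsystem over `U` of p-power index), `hyperfocal_le`, `hyperfocal_eq_of_pPowerIndex`.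
-/

set_option autoImplicit false

namespace Cfsg.Agent.FusionNormal

open Cfsg Cfsg.FusionSystem Cfsg.Agent.Fusion

variable {Ω : Type*} [Group Ω] {S T U : Subgroup Ω} {p : ℕ} [Fact p.Prime]

/-- Weak form of Alperin's theorem. -/
theorem isMap_of_autGroup [Finite S] (hS : IsPGroup p S) {F : FusionSystem S} (hF : F.IsSaturated p)
    (D : FusionSystem U)
    (h : ∀ R : Subgroup Ω, F.IsFullyNormalized R → ∀ α ∈ F.autGroup R, IsMap D R (autFn α))
    {P : Subgroup Ω} {f : Ω → Ω} (hf : IsMap F P f) : IsMap D P f := by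
  induction hn : Nat.card S - Nat.card P using Nat.strong_induction_on generalizing P f with
  | _ n ih =>
    have hPS := hf.le
    by_cases hP : P = S
    · subst hP
      have hiso : IsIso F P P f :=
        ⟨hf, eq_of_le_of_card le_rfl hf.img_le_S (le_of_eq (hf.card_img le_rfl).symm)⟩
      obtain ⟨α, hα, e⟩ := exists_aut_of_isIso hiso
      have hfn : F.IsFullyNormalized P := ⟨le_rfl, fun Q hQ => by
        rw [normalizerIn_self]; exact Subgroup.card_le_of_le inf_le_left⟩
      exact (h P hfn α hα).congr fun x hx => (autFn_apply α hx).trans (e ⟨x, hx⟩)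
    have hlt : ∀ {M : Subgroup Ω}, M ≤ S → Nat.card M = Nat.card P →
        Nat.card S - Nat.card (normalizerIn S M) < n := by
      intro M hM hMc
      have := finite_of_le hPS
      have hMS : M ≠ S := by
        rintro rfl
        exact hP (eq_of_le_of_card le_rfl hPS hMc.le)
      have h1 := lt_normalizerIn hS le_rfl (lt_of_le_of_ne hM hMS)
      have hN : normalizerIn S M ≤ S := inf_le_left
      have := finite_of_le hN
      have h2 : Nat.card M < Nat.card (normalizerIn S M) :=
        lt_of_le_of_ne (Subgroup.card_le_of_le h1.le) fun e =>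
          h1.ne (eq_of_le_of_card hN h1.le e.symm.le)
      have h3 : Nat.card (normalizerIn S M) ≤ Nat.card S := Subgroup.card_le_of_le hN
      omega
    set Q := img f P
    have hQS : Q ≤ S := hf.img_le_S
    obtain ⟨R, a, hR, ha, haP, -⟩ := exists_fullyNormalized_map hS hF hPS
    have haD : IsMap D (normalizerIn S P) a := ih _ (hlt hPS rfl) ha rfl
    have haI : IsIso F P R a := ⟨ha.mono (le_normalizerIn hPS), haP⟩
    have haID : IsIso D P R a := ⟨haD.mono (le_normalizerIn hPS), haP⟩
    have hQR : F.IsConj Q R :=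
      isConj_trans (isConj_symm (isConj_iff.2 ⟨f, hf.isIso⟩)) (isConj_iff.2 ⟨a, haI⟩)
    obtain ⟨b, hb, hbQ, -⟩ := exists_normalizer_map hS (fullyAutomized_of_fullyNormalized hS hF hR)
      (receptive_of_fullyNormalized hS hF hR) hQR
    have hbD : IsMap D (normalizerIn S Q) b := ih _ (hlt hQS (hf.card_img le_rfl)) hb rfl
    have hbI : IsIso F Q R b := ⟨hb.mono (le_normalizerIn hQS), hbQ⟩
    have hbID : IsIso D Q R b := ⟨hbD.mono (le_normalizerIn hQS), hbQ⟩
    obtain ⟨a', ha', haa, -⟩ := haI.symm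
    obtain ⟨γ, hγ, hγe⟩ := exists_aut_of_isIso ((ha'.trans hf.isIso).trans hbI)
    obtain ⟨b', hb', hbb, -⟩ := hbID.symm
    have hg : IsIso D R R (autFn γ) := autFn_isIso (h R hR γ hγ)
    refine ((haID.trans hg).trans hb').1.congr fun x hx => ?_
    show b' (autFn γ (a x)) = f x
    rw [autFn_apply γ (haI.mem hx), hγe]
    show b' (b (f (a' (a x)))) = f x
    rw [haa x hx]
    exact hbb _ (hf.mem_img hx)

/-- The inner system is contained in every system. -/
theorem inner_le (F : FusionSystem S) {P : Subgroup Ω} {f : Ω → Ω}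
    (hf : IsMap (innerFusionSystem S) P f) : IsMap F P f := by
  obtain ⟨φ, ⟨hP, g, hg, hφ⟩, e⟩ := hf
  exact (IsMap.conj hP hg).congr fun x hx => by rw [← e x hx, hφ]

/-- A subgroup of `Aut(P)` with Sylow `p`-subgroup inside `H` and all `p'`-elements inside `H` is in `H`. -/
theorem autGroup_le_of_sylow_pResidual {M : Type*} [Group M] [Finite M] {A B H : Subgroup M}
    (hB : IsSylowIn p B A) (hBH : B ≤ H) (hres : ∀ g ∈ A, (orderOf g).Coprime p → g ∈ H) : A ≤ H := by
  have hB' : IsSylowIn p (B.subgroupOf A) (⊤ : Subgroup A) := by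
    refine ⟨le_top, (isPGroup_subgroupOf hB.le).2 hB.isPGroup, fun C hC _ hCp => ?_⟩
    have := hB.2.2 (C.map A.subtype) (fun x hx => ⟨⟨x, hB.le hx⟩, hC hx, rfl⟩)
      (Subgroup.map_subtype_le C) (hCp.map _)
    rw [← this]
    exact (Subgroup.comap_map_eq_self_of_injective A.subtype_injective C).symm
  have h := hB'.sup_pResidual
  intro x hx
  have hx' : (⟨x, hx⟩ : A) ∈ B.subgroupOf A ⊔ Cfsg.pResidual p A := h ▸ Subgroup.mem_top _
  have hle : B.subgroupOf A ⊔ Cfsg.pResidual p A ≤ H.comap A.subtype := by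
    refine sup_le (fun y hy => hBH hy) ((Subgroup.closure_le _).2 fun y hy => ?_)
    refine hres y y.2 ?_
    rw [Subgroup.orderOf_coe]
    exact hy
  exact hle hx'

/-- A saturated system in which every automizer is a `p`-group is inner. -/
theorem eq_inner_of_isPGroup [Finite S] (hS : IsPGroup p S) {F : FusionSystem S} (hF : F.IsSaturated p)
    (h : ∀ P : Subgroup Ω, P ≤ S → ∀ g ∈ F.autGroup P, (orderOf g).Coprime p → g = 1) (P : Subgroup Ω) :
    F.Hom P = (innerFusionSystem S).Hom P := by
  have key : ∀ R : Subgroup Ω, F.IsFullyNormalized R → ∀ α ∈ F.autGroup R,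
      IsMap (innerFusionSystem S) R (autFn α) := by
    intro R hR α hα
    have := finite_mulAut (S := S) hR.1
    have hα' : α ∈ (innerFusionSystem S).autGroup R := by
      refine autGroup_le_of_sylow_pResidual (H := (innerFusionSystem S).autGroup R)
        (isFullyAutomized_iff.1 (fullyAutomized_of_fullyNormalized hS hF hR)).2
        (autInducedBy_le_autGroup _ le_rfl hR.1) (fun g hg hg' => ?_) hα
      rw [h R hR.1 g hg hg']
      exact one_mem _
    exact (mem_autGroup_iff hR.1).1 hα'
  ext φ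
  refine ⟨fun hφ => ?_, fun hφ => ?_⟩
  · exact mem_of_isMap (isMap_of_autGroup hS hF _ key (isMap_toFn hφ)) fun x => (toFn_coe φ x).symm
  · exact mem_of_isMap (inner_le F (isMap_toFn hφ)) fun x => (toFn_coe φ x).symm

omit [Fact p.Prime] in
/-- An element of order prime to `p` of `Aut_E(P)` lies in `O^p(Aut_F(P))`. -/
theorem mem_pResidual_map {F : FusionSystem S} {P : Subgroup Ω} {g : MulAut P} (hg : g ∈ F.autGroup P)
    (h : (orderOf g).Coprime p) :
    g ∈ (Cfsg.pResidual p (F.autGroup P)).map (F.autGroup P).subtype := by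
  refine ⟨⟨g, hg⟩, Subgroup.subset_closure ?_, rfl⟩
  show (orderOf (⟨g, hg⟩ : F.autGroup P)).Coprime p
  rwa [← Subgroup.orderOf_coe]

/-- A saturated subsystem over `T ≤ U` lies in every subsystem over `U` of `p`-power index. -/
theorem isMap_of_pPowerIndex [Finite T] {F : FusionSystem S} {E : FusionSystem T} {D : FusionSystem U}
    (hT : IsPGroup p T) (hEsat : E.IsSaturated p) (hEF : E.IsSubsystemOf F)
    (hD : D.HasPPowerIndexIn F p) (hTU : T ≤ U) {P : Subgroup Ω} {f : Ω → Ω} (hf : IsMap E P f) :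
    IsMap D P f := by
  refine isMap_of_autGroup hT hEsat D (fun R hR α hα => ?_) hf
  have := finite_mulAut (S := T) hR.1
  have hRU : R ≤ U := hR.1.trans hTU
  have hα' : α ∈ D.autGroup R := by
    refine autGroup_le_of_sylow_pResidual (H := D.autGroup R)
      (isFullyAutomized_iff.1 (fullyAutomized_of_fullyNormalized hT hEsat hR)).2
      (autInducedBy_le_autGroup _ hTU hRU) (fun g hg hg' => ?_) hα
    exact hD.2.2 R hRU (mem_pResidual_map (autGroup_le_of_sub hEF hR.1 hg) hg')
  exact (mem_autGroup_iff hRU).1 hα'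

theorem isSubsystemOf_of_pPowerIndex [Finite T] {F : FusionSystem S} {E : FusionSystem T}
    {D : FusionSystem U} (hT : IsPGroup p T) (hEsat : E.IsSaturated p) (hEF : E.IsSubsystemOf F)
    (hD : D.HasPPowerIndexIn F p) (hTU : T ≤ U) : E.IsSubsystemOf D := fun _ φ hφ =>
  mem_of_isMap (isMap_of_pPowerIndex hT hEsat hEF hD hTU (isMap_toFn hφ)) fun x => (toFn_coe φ x).symm

omit [Fact p.Prime] in
theorem hyperfocal_le (F : FusionSystem S) : F.hyperfocalSubgroup p ≤ S := by
  refine (Subgroup.closure_le _).2 ?_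
  rintro y ⟨P, α, x, hP, -, rfl⟩
  exact S.mul_mem (S.inv_mem (hP x.2)) (hP ((α : MulAut P) x).2)

omit [Fact p.Prime] in
/-- The hyperfocal subgroup of a subsystem is contained in that of the system. -/
theorem hyperfocal_mono {F : FusionSystem S} {E : FusionSystem T} (hEF : E.IsSubsystemOf F) (hTS : T ≤ S) :
    E.hyperfocalSubgroup p ≤ F.hyperfocalSubgroup p := by
  refine (Subgroup.closure_le _).2 ?_
  rintro y ⟨P, α, x, hP, hα, rfl⟩
  refine Subgroup.subset_closure ⟨P, ⟨α, autGroup_le_of_sub hEF hP α.2⟩, x, hP.trans hTS, ?_, rfl⟩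
  have hle : Cfsg.pResidual p (E.autGroup P) ≤
      (Cfsg.pResidual p (F.autGroup P)).comap (Subgroup.inclusion (autGroup_le_of_sub hEF hP)) := by
    refine (Subgroup.closure_le _).2 fun g hg => Subgroup.subset_closure ?_
    show (orderOf (Subgroup.inclusion (autGroup_le_of_sub hEF hP) g)).Coprime p
    rw [orderOf_injective _ (Subgroup.inclusion_injective _)]
    exact hg
  exact hle hα

theorem pow_gcd_mem {R : Type*} [Group R] {H : Subgroup R} {v : R} {m n : ℕ} (hm : v ^ m ∈ H)
    (hn : v ^ n = 1) : v ^ Nat.gcd m n ∈ H := by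
  rw [← zpow_natCast, Nat.gcd_eq_gcd_ab, zpow_add, zpow_mul, zpow_mul, zpow_natCast, zpow_natCast,
    hn, one_zpow, mul_one]
  exact zpow_mem hm _

omit [Fact p.Prime] in
/-- `[P, α] ≤ H` when `[P, α] ≤ V` and `[V, α] ≤ H`, for `α` of order prime to `p`. -/
theorem comm_mem_of_coprime {R : Type*} [Group R] (hR : IsPGroup p R) (a : MulAut R)
    (ha : (orderOf a).Coprime p) (V H : Subgroup R) (h2 : ∀ v ∈ V, v⁻¹ * a v ∈ H)
    (hHV : H ≤ V) {x : R} (hx : x⁻¹ * a x ∈ V) : x⁻¹ * a x ∈ H := by
  set v := x⁻¹ * a x with hv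
  have key : ∀ n : ℕ, ∃ w ∈ H, (a ^ n) x = x * (v ^ n * w) := by
    intro n
    induction n with
    | zero => exact ⟨1, one_mem _, by simp⟩
    | succ m ih =>
      obtain ⟨w, hw, e⟩ := ih
      set y := v ^ m * w
      have hy : y ∈ V := mul_mem (pow_mem hx m) (hHV hw)
      refine ⟨w * (y⁻¹ * a y), mul_mem hw (h2 y hy), ?_⟩
      have hax : a x = x * v := by rw [hv]; group
      rw [pow_succ', MulAut.mul_apply, e, map_mul a x y, hax, pow_succ']
      simp only [y]
      group
  obtain ⟨w, hw, e⟩ := key (orderOf a)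
  rw [pow_orderOf_eq_one, MulAut.one_apply] at e
  have h1 : v ^ orderOf a * w = 1 := mul_eq_left.mp e.symm
  have h3 : v ^ orderOf a ∈ H := by
    rw [mul_eq_one_iff_eq_inv.mp h1]
    exact inv_mem hw
  obtain ⟨k, hk⟩ := hR v
  have h4 : v ^ (Nat.gcd (orderOf a) (p ^ k)) ∈ H := pow_gcd_mem h3 hk
  rwa [(ha.pow_right k).gcd_eq_one, pow_one] at h4

/-- A subsystem of `p`-power index on a strongly closed subgroup has the same hyperfocal subgroup. -/
theorem hyperfocal_eq_of_pPowerIndex [Finite S] (hS : IsPGroup p S) {F : FusionSystem S}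
    {E : FusionSystem T} (hTc : F.StronglyClosed T) (hE : E.HasPPowerIndexIn F p) :
    E.hyperfocalSubgroup p = F.hyperfocalSubgroup p := by
  have hTS : T ≤ S := hTc.1
  refine le_antisymm (hyperfocal_mono hE.1 hTS) ((Subgroup.closure_le _).2 ?_)
  rintro y ⟨P, α, x, hP, hα, rfl⟩
  let H := E.hyperfocalSubgroup p
  have hmain : ∀ g : F.autGroup P, g ∈ Cfsg.pResidual p (F.autGroup P) →
      ∀ x : P, ((x : Ω)⁻¹ * ((g : MulAut P) x : P)) ∈ H := by
    intro g hg
    induction hg using Subgroup.closure_induction with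
    | one => intro x; simp
    | mul a b _ _ ha hb =>
      intro x
      have := H.mul_mem (hb x) (ha ((b : MulAut P) x))
      simpa [mul_assoc] using this
    | inv a _ ha =>
      intro x
      have := H.inv_mem (ha (((a : MulAut P)⁻¹) x))
      simpa [mul_assoc] using this
    | mem a hga =>
      intro x
      have hga' : (orderOf (a : MulAut P)).Coprime p := by rw [Subgroup.orderOf_coe]; exact hga
      have hmap : IsMap F P (autFn (a : MulAut P)) := (mem_autGroup_iff hP).1 a.2
      set V : Subgroup Ω := P ⊓ T with hV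
      have hVT : V ≤ T := inf_le_right
      have hcl : ∀ z ∈ V, autFn (a : MulAut P) z ∈ V := fun z hz => by
        refine ⟨autFn_mem _ hz.1, ?_⟩
        obtain ⟨φ, hφ, e⟩ := hmap.mono (inf_le_left : V ≤ P)
        rw [← e z hz]
        exact hTc.2 V hVT φ hφ ⟨z, hz⟩
      have hVS : V ≤ S := inf_le_left.trans hP
      have hmV : IsMap F V (autFn (a : MulAut P)) := hmap.mono inf_le_left
      have hVi : IsIso F V V (autFn (a : MulAut P)) :=
        ⟨hmV, eq_of_le_of_card hVS (hmV.img_le le_rfl hcl) (le_of_eq (hmV.card_img le_rfl).symm)⟩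
      obtain ⟨b, hb, hbe⟩ := exists_aut_of_isIso hVi
      have hpow : ∀ (n : ℕ) (z : V),
          (((b ^ n) z : V) : Ω) = ((((a : MulAut P) ^ n) ⟨z, z.2.1⟩ : P) : Ω) := by
        intro n
        induction n with
        | zero => intro z; simp
        | succ m ih =>
          intro z
          rw [pow_succ', pow_succ', MulAut.mul_apply, MulAut.mul_apply, hbe,
            autFn_apply _ ((b ^ m) z).2.1]
          congr 2
          exact Subtype.ext (ih z)
      have hb1 : b ^ orderOf (a : MulAut P) = 1 :=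
        MulEquiv.ext fun z => Subtype.ext (by rw [hpow, pow_orderOf_eq_one]; rfl)
      have hbp : (orderOf b).Coprime p :=
        Nat.Coprime.coprime_dvd_left (orderOf_dvd_of_pow_eq_one hb1) hga'
      obtain ⟨c, hc, hcb⟩ : b ∈ (Cfsg.pResidual p (E.autGroup V)).map (E.autGroup V).subtype := by
        refine mem_pResidual_map ?_ hbp
        exact hE.2.2 V hVT (mem_pResidual_map hb hbp)
      have hVH : ∀ z : P, (z : Ω) ∈ T → z⁻¹ * (a : MulAut P) z ∈ (H.subgroupOf P ⊓ T.subgroupOf P) := by
        intro z hz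
        have hz' : (z : Ω)⁻¹ * ((c : MulAut V) ⟨z, z.2, hz⟩ : V) ∈ H :=
          Subgroup.subset_closure ⟨V, c, ⟨z, z.2, hz⟩, hVT, hc, rfl⟩
        have e : (((c : MulAut V) ⟨z, z.2, hz⟩ : V) : Ω) = ((a : MulAut P) z : P) := by
          rw [show (c : MulAut V) = b from hcb, hbe, autFn_apply _ z.2]
        rw [e] at hz'
        exact ⟨hz', hyperfocal_le E hz'⟩
      have hx : x⁻¹ * (a : MulAut P) x ∈ T.subgroupOf P :=
        hE.2.1 (Subgroup.subset_closure ⟨P, a, x, hP, Subgroup.subset_closure hga, rfl⟩)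
      exact (comm_mem_of_coprime (hS.to_le hP) _ hga' (T.subgroupOf P)
        (H.subgroupOf P ⊓ T.subgroupOf P) (fun v hv => hVH v hv) inf_le_right hx).1
  exact hmain α hα x

end Cfsg.Agent.FusionNormal
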